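import Groth.Agent.S16491
import Groth.Agent.S10960
import Groth.Agent.S10829
import Groth.Agent.AmpleFamLib.TopVan
import Groth.Agent.NormalRefLib.Basic
import Groth.Agent.ASBunKS.RankOne
import Groth.Agent.CIProjLib.Basic
import Groth.Agent.GrothBddLib.Gen
import Groth.Agent.HilbObsLib.Ideal
import Groth.Agent.K0PnLib.Euler
import Groth.Agent.RefOne.Divisor
import Groth.Agent.TFCurvSSLib.SubSuper
import Groth.Agent.IntLib.Divisor

/-!
# Ideal sheaves with the Hilbert polynomial of a hypersurface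
-/

set_option autoImplicit false
set_option backward.isDefEq.respectTransparency false
set_option linter.style.haveILetI false
set_option maxHeartbeats 200000

universe u

open CategoryTheory CategoryTheory.Limits AlgebraicGeometry Polynomial
open Groth.Agent.PullbackMod

noncomputable section

namespace Groth.Agent.HypHilb

/-- Two distinct translates of the binomial polynomial differ in degree `r - 1`. -/
theorem translate_eq {r : ℕ} (hr : 1 ≤ r) {a b : ℚ}
    (h : (Polynomial.taylor a (C ((r.factorial : ℚ)⁻¹) * descPochhammer ℚ r) -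
      Polynomial.taylor b (C ((r.factorial : ℚ)⁻¹) * descPochhammer ℚ r)).coeff (r - 1) = 0) : a = b := by
  set p : ℚ[X] := C ((r.factorial : ℚ)⁻¹) * descPochhammer ℚ r with hp
  have hf : ((r.factorial : ℚ)⁻¹) ≠ 0 := inv_ne_zero (by exact_mod_cast r.factorial_ne_zero)
  have hd : p.natDegree = r := by rw [hp, natDegree_C_mul hf, descPochhammer_natDegree]
  have hlc : p.coeff r ≠ 0 := by
    conv_lhs => rw [← hd]
    exact leadingCoeff_ne_zero.2 fun h0 => by rw [h0, natDegree_zero] at hd; omega
  have hl := eq_X_add_C_of_natDegree_le_one (p := hasseDeriv (r - 1) p)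
    ((natDegree_hasseDeriv_le p (r - 1)).trans (by omega))
  rw [coeff_sub, taylor_coeff, taylor_coeff, hl, hasseDeriv_coeff, show 1 + (r - 1) = r by omega] at h
  simp only [eval_add, eval_mul, eval_C, eval_X] at h
  have hc : ((r.choose (r - 1) : ℕ) : ℚ) ≠ 0 := by exact_mod_cast (Nat.choose_pos (Nat.sub_le r 1)).ne'
  have : ((r.choose (r - 1) : ℕ) : ℚ) * p.coeff r * (a - b) = 0 := by linear_combination h
  exact sub_eq_zero.1 ((mul_eq_zero.1 this).resolve_left (mul_ne_zero hc hlc))

/-- The binomial polynomial `C(T, r)`. -/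
def binPoly (r : ℕ) : ℚ[X] := C ((r.factorial : ℚ)⁻¹) * descPochhammer ℚ r

theorem eq_of_eval_nat {P Q : ℚ[X]} (h : ∀ m : ℕ, P.eval (m : ℚ) = Q.eval (m : ℚ)) : P = Q := by
  refine Polynomial.eq_of_infinite_eval_eq _ _
    (Set.Infinite.mono ?_ (Set.infinite_range_of_injective Nat.cast_injective))
  rintro _ ⟨m, rfl⟩
  exact h m

section General

variable (k : Type u) [Field k] {X : Scheme.{u}} [X.Over (Spec (CommRingCat.of k))]
  [IsProper (X ↘ Spec (CommRingCat.of k))] {L : X.Modules}

/-- Euler characteristics of twists along the ideal sequence. -/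
theorem chi_ideal (hL : PicF.IsInvertible L) (I : X.IdealSheafData) (m : ℕ) :
    HilbLib.chi k L (ClSub.idealMod I) m =
      HilbLib.chi k L (Coh.structureModule X) m - HilbLib.chi k L (ClSub.quotMod I) m := by
  haveI := EulerIneqLib.isNoetherian_proper (X := X) k
  haveI : Epi (ClSub.toSubscheme I) := HilbObsLib.epi_toSubscheme I
  haveI hmι : Mono (ClSub.idealModι I) := by unfold ClSub.idealModι; infer_instance
  have hw : ClSub.idealModι I ≫ ClSub.toSubscheme I = 0 := kernel.condition _
  have hS : (ShortComplex.mk (ClSub.idealModι I) (ClSub.toSubscheme I) hw).ShortExact :=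
    ShortComplex.ShortExact.mk' (ShortComplex.exact_of_f_is_kernel _ (kernelIsKernel _)) hmι
      (inferInstanceAs (Epi (ClSub.toSubscheme I)))
  have hcI : Coh.IsCoh (ClSub.idealMod I) := by
    haveI := OmegaAffLib.isQCoh_idealMod I
    exact QCohLib.isCoh_of_mono (ClSub.idealModι I) (DevLib.isCoh_structureModule X) inferInstance
  rw [eq_sub_iff_add_eq]
  exact (HilbLib.chi_shortExact k hL hS hcI (DevLib.isCoh_structureModule X) (IntLib.isCoh_quotMod I) m).symm

end General

section Integral

variable {X : Scheme.{u}} [IsIntegral X] [IsLocallyNoetherian X]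

theorem isTorsionFree_idealMod (I : X.IdealSheafData) : TorSh.IsTorsionFree (ClSub.idealMod I) := fun x =>
  Function.Injective.moduleIsTorsionFree
    (⇑((RefOne.oEquiv x).symm.toLinearMap ∘ₗ stalkLin (ClSub.idealModι I) x))
    ((RefOne.oEquiv x).symm.injective.comp (RefOne.idealModι_stalk I x).1) fun c m => map_smul _ c m

theorem generic_equiv (I : X.IdealSheafData) (h : ¬ IsZero (ClSub.idealMod I)) :
    Nonempty (X.presheaf.stalk (genericPoint X) ≃ₗ[X.presheaf.stalk (genericPoint X)]
      (ClSub.idealMod I).presheaf.stalk (genericPoint X)) := by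
  haveI := OmegaAffLib.isQCoh_idealMod I
  have hF : IsField (X.presheaf.stalk (genericPoint X)) := Field.toIsField X.functionField
  let g := (RefOne.oEquiv (genericPoint X)).symm.toLinearMap ∘ₗ stalkLin (ClSub.idealModι I) (genericPoint X)
  have hg : Function.Injective g :=
    (RefOne.oEquiv (genericPoint X)).symm.injective.comp (RefOne.idealModι_stalk I (genericPoint X)).1
  haveI := Ring.isField_iff_isSimpleOrder_ideal.1 hF
  rcases IsSimpleOrder.eq_bot_or_eq_top (LinearMap.range g) with hbot | htop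
  · exfalso
    haveI : Subsingleton ((ClSub.idealMod I).presheaf.stalk (genericPoint X)) := ⟨fun a b => hg (by
      have ha : g a ∈ LinearMap.range g := ⟨a, rfl⟩
      have hb : g b ∈ LinearMap.range g := ⟨b, rfl⟩
      rw [hbot, Submodule.mem_bot] at ha hb
      rw [ha, hb])⟩
    exact h (TFCurvSSLib.isZero_of_subsingleton_stalks fun x => ⟨fun a b =>
      NormalRefLib.isTorsionFree_iff_inj _ (isTorsionFree_idealMod I) x (Subsingleton.elim _ _)⟩)
  · exact ⟨(LinearEquiv.ofBijective g ⟨hg, LinearMap.range_eq_top.1 htop⟩).symm⟩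

theorem low_generic : ¬ (2 : WithBot ℕ∞) ≤ ringKrullDim (X.presheaf.stalk (genericPoint X)) := by
  rw [ringKrullDim_eq_zero_of_isField (Field.toIsField X.functionField)]
  decide

/-- The reflexive hull of a torsion-free module is invertible and small-cokernel. -/
theorem hull_props (hreg : ∀ x : X, IsRegularLocalRing (X.presheaf.stalk x)) {F : X.Modules} (hF : Coh.IsCoh F)
    (hT : TorSh.IsTorsionFree F) (hη : Nonempty (X.presheaf.stalk (genericPoint X) ≃ₗ[X.presheaf.stalk (genericPoint X)]
      F.presheaf.stalk (genericPoint X))) :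
    ∃ (D : X.Modules) (j : F ⟶ D), Mono j ∧ Coh.IsCoh D ∧ PicF.IsInvertible D ∧
      ∀ x ∈ CohB1.support (cokernel j), (2 : WithBot ℕ∞) ≤ ringKrullDim (X.presheaf.stalk x) := by
  have hN : Pi1.IsNormalScheme X := S3841.normal_of_ufd fun x =>
    haveI := hreg x
    RegLocal.ufd _
  have hD : Coh.IsCoh (RefHull.ddual F) := RefOne.isCoh_dual (RefOne.isCoh_dual hF)
  haveI hjm : Mono (RefHull.bidualMap F) :=
    (mono_iff_stalk _).2 fun x => NormalRefLib.stalk_bidual_injective hF hT x
  have hlow : ∀ x : X, ¬ (2 : WithBot ℕ∞) ≤ ringKrullDim (X.presheaf.stalk x) →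
      Function.Bijective (stalkLin (RefHull.bidualMap F) x) := fun x hx =>
    (RefOne.bijective_bidual_stalk_iff hF x).2 (NormalRefLib.isReflexiveAt_of_low hN hF hT hx)
  refine ⟨RefHull.ddual F, RefHull.bidualMap F, hjm, hD,
    S16491.result X hreg _ hD (RefOne.isReflexive_dual (RefOne.isCoh_dual hF))
      (ASBunKS.genInvertible_of_free hD ⟨hη.some.trans (LinearEquiv.ofBijective _ (hlow _ low_generic))⟩),
    fun x hx => ?_⟩
  by_contra h
  exact DevLib.notMem_support_coker (RefHull.bidualMap F) (hlow x h).2 hx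

end Integral

variable {k : Type u} [Field k] [IsAlgClosed k] {r : ℕ}

local notation "PS" => CohB1.ProjSpace r k
local notation "O(" d ")" => Twist.twistProjSpace r k d

local instance : IsProper (PS ↘ Spec (CommRingCat.of k)) := CompleteCurve.isProper_toSpec r k

theorem euler_eq_poly (hr : 1 ≤ r) (a : ℤ) (m : ℕ) :
    (Curv2.euler k PS (O(a + (m : ℤ))) : ℚ) = (Polynomial.taylor ((a + r : ℤ) : ℚ) (binPoly r)).eval (m : ℚ) := by
  rw [CMRegLib.euler_twist (k := k) (by omega), CMRegLib.choose_eq_eval, taylor_eval, binPoly]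
  congr 1
  push_cast
  ring

theorem chi_twisted (hr : 1 ≤ r) {D : (PS).Modules} {e : ℤ} (eD : D ≅ O(e)) (m : ℕ) :
    HilbLib.chi k (O(1)) D m = (Polynomial.taylor ((e + r : ℤ) : ℚ) (binPoly r)).eval (m : ℚ) := by
  rw [← euler_eq_poly (k := k) hr e, GrothBddLib.chi_twist_eq]
  exact congrArg (fun z : ℤ => (z : ℚ))
    (CurveLib.euler_iso (K := k) (AmpleLib.tIso eD (Iso.refl _) ≪≫ K0PnLib.twistAddIso k r rfl))

theorem chi_idealMod (hr : 1 ≤ r) (d : ℕ) (I : (PS).IdealSheafData)
    (hP : ∀ t : ℤ, Curv2.euler k PS (CohB1.tensorMod (ClSub.quotMod I) (O(t))) =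
      Ring.choose (t + r) r - Ring.choose (t + r - d) r) (m : ℕ) :
    HilbLib.chi k (O(1)) (ClSub.idealMod I) m =
      (Polynomial.taylor ((-(d : ℤ) + r : ℤ) : ℚ) (binPoly r)).eval (m : ℚ) := by
  have hL : PicF.IsInvertible (O(1)) := (AmpleEmb.isAmple_twistOne r k).1
  haveI : IsIso (ProjCoh.unitToTwist (CohB1.polyGrading r k)) := ProjCoh.isIso_unitToTwist
  let u : Coh.structureModule PS ≅ O(0) := asIso (ProjCoh.unitToTwist (CohB1.polyGrading r k))
  rw [chi_ideal k hL I m, chi_twisted hr u m, GrothBddLib.chi_twist_eq, hP, ← euler_eq_poly (k := k) hr,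
    ← euler_eq_poly (k := k) hr, CMRegLib.euler_twist (k := k) (by omega), CMRegLib.euler_twist (k := k) (by omega), Int.cast_sub,
    show (0 : ℤ) + (m : ℤ) + r = (m : ℤ) + r by ring, show -(d : ℤ) + (m : ℤ) + r = (m : ℤ) + r - d by ring]
  ring

theorem ideal_ne_zero (hr : 1 ≤ r) (d : ℕ) (I : (PS).IdealSheafData)
    (hP : ∀ t : ℤ, Curv2.euler k PS (CohB1.tensorMod (ClSub.quotMod I) (O(t))) =
      Ring.choose (t + r) r - Ring.choose (t + r - d) r) : ¬ IsZero (ClSub.idealMod I) := fun hz => by
  have h := chi_idealMod hr d I hP d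
  rw [HilbLib.chi_isZero k ((AmpleEmb.isAmple_twistOne r k).1) hz, taylor_eval, binPoly,
    show (d : ℚ) + ((-(d : ℤ) + r : ℤ) : ℚ) = ((r : ℤ) : ℚ) by push_cast; ring, ← CMRegLib.choose_eq_eval,
    Ring.choose_natCast, Nat.choose_self] at h
  simp at h

theorem isZero_of_chi_zero {K : (PS).Modules} (hK : Coh.IsCoh K) (h : ∀ m : ℕ, HilbLib.chi k (O(1)) K m = 0) :
    IsZero K := by
  obtain ⟨P, hP'⟩ := CMRegLib.exists_euler_poly K hK
  have hP0 : P = 0 := eq_of_eval_nat fun m => by
    have h1 := h m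
    rw [GrothBddLib.chi_twist_eq, hP', Int.cast_natCast] at h1
    simpa using h1
  exact TFCurvSSLib.isZero_of_subsingleton_stalks fun x => GrothBddLib.subsingleton_stalk_of_euler_zero hK hP0 hP' x

theorem poly_small (hr : 1 ≤ r) {K : (PS).Modules} (hK : Coh.IsCoh K)
    (hsupp : ∀ x ∈ CohB1.support K, (2 : WithBot ℕ∞) ≤ ringKrullDim ((PS).presheaf.stalk x)) :
    HilbLib.PolyLT k (O(1)) K (r - 1) := by
  refine HilbLib.exists_poly k ((AmpleEmb.isAmple_twistOne r k).1) (r - 1) K hK ?_
  rcases (CohB1.support K).eq_empty_or_nonempty with h0 | hne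
  · haveI : IsEmpty (CohB1.support K) := Set.isEmpty_coe_sort.2 h0
    haveI : IsEmpty (TopologicalSpace.IrreducibleCloseds ↥(CohB1.support K)) :=
      ⟨fun Z => isEmptyElim Z.isIrreducible.nonempty.some⟩
    rw [show topologicalKrullDim (CohB1.support K) = ⊥ from Order.krullDim_eq_bot]
    exact WithBot.bot_lt_coe _
  · haveI : IsNoetherian PS := EulerIneqLib.isNoetherian_proper (X := PS) k
    obtain ⟨h2, hle⟩ := AmpleFamLib.topologicalKrullDim_le_of_stalk (DevLib.isClosed_support hK) (m := 2) (d := r)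
      (S10829.result k r).le hsupp hne
    exact lt_of_le_of_lt hle (by exact_mod_cast (show r - 2 < r - 1 by omega))

theorem main (hr : 1 ≤ r) (d : ℕ) (I : (PS).IdealSheafData)
    (hP : ∀ t : ℤ, Curv2.euler k PS (CohB1.tensorMod (ClSub.quotMod I) (O(t))) =
      Ring.choose (t + r) r - Ring.choose (t + r - d) r) :
    Nonempty (ClSub.idealMod I ≅ O(-(d : ℤ))) := by
  haveI : IsNoetherian PS := EulerIneqLib.isNoetherian_proper (X := PS) k
  haveI : IsIntegral PS := REqLib.isIntegral_projSpace r k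
  have hL : PicF.IsInvertible (O(1)) := (AmpleEmb.isAmple_twistOne r k).1
  have hF : Coh.IsCoh (ClSub.idealMod I) := RefOne.isCoh_idealMod I
  obtain ⟨D, j, hjm, hD, hDinv, hsupp⟩ := hull_props (fun x => CIProjLib.isRegularLocalRing_stalk x) hF
    (isTorsionFree_idealMod I) (generic_equiv I (ideal_ne_zero hr d I hP))
  obtain ⟨e, ⟨eD⟩, -⟩ := S10960.result k r hr D hDinv
  have hK : Coh.IsCoh (cokernel j) := (QCohLib.isCoh_kernel_cokernel j hF hD).2
  obtain ⟨Q, hQd, hQe⟩ := poly_small hr hK hsupp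
  have hdiff : ∀ m : ℕ, HilbLib.chi k (O(1)) (cokernel j) m =
      (Polynomial.taylor ((e + r : ℤ) : ℚ) (binPoly r) -
        Polynomial.taylor ((-(d : ℤ) + r : ℤ) : ℚ) (binPoly r)).eval (m : ℚ) := fun m => by
    rw [eval_sub, ← chi_twisted hr eD, ← chi_idealMod hr d I hP, HilbLib.chi_coker k hL j hF hD m, add_sub_cancel_left]
  have he : e = -(d : ℤ) := by
    have h0 : Q.coeff (r - 1) = 0 := coeff_eq_zero_of_degree_lt hQd
    rw [eq_of_eval_nat (fun m => (hQe m).symm.trans (hdiff m)), binPoly] at h0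
    have := translate_eq hr h0
    push_cast at this
    exact_mod_cast add_right_cancel this
  subst he
  haveI : Epi j := Preadditive.epi_of_isZero_cokernel j (isZero_of_chi_zero hK fun m => by
    rw [hdiff m, sub_self, eval_zero])
  haveI := isIso_of_mono_of_epi j
  exact ⟨asIso j ≪≫ eD⟩

end Groth.Agent.HypHilb
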